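import Mathlib
import Cfsg.Agent.Lib.PGroup.Basic

/-!
# `p`-central `p`-groups (`p` odd)

If every element of order `p` of a finite `p`-group `G` (`p` odd) is central, then the `p`-power map
is a homomorphism on the elements of order dividing `p²`, and `G` can be generated by `r` elements
where `p ^ r` is the number of solutions of `x ^ p = 1`.
-/

set_option autoImplicit false
set_option linter.unusedSectionVars false
set_option linter.unusedVariables false
set_option linter.style.haveILetI false

namespace Cfsg.Agent.Lib.PRank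

open Subgroup
open scoped commutatorElement

universe u

/-- Every element of `G` with `x ^ p = 1` is central. -/
def PCen (p : ℕ) (G : Type u) [Group G] : Prop := ∀ x : G, x ^ p = 1 → x ∈ center G

variable {p : ℕ} [hp : Fact p.Prime]

theorem choose_pow_eq_one (hodd : p ≠ 2) {G : Type u} [Group G] {c : G} (hc : c ^ p = 1) :
    c ^ p.choose 2 = 1 := by
  have h3 : 2 < p := lt_of_le_of_ne hp.out.two_le (Ne.symm hodd)
  obtain ⟨k, hk⟩ := hp.out.dvd_choose_self (k := 2) (by norm_num) h3
  rw [hk, pow_mul, hc, one_pow]

theorem PCen.subgroup {G : Type u} [Group G] (h : PCen p G) (K : Subgroup G) : PCen p K := by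
  intro x hx
  have h1 : (x : G) ^ p = 1 := by simpa using congrArg Subtype.val hx
  rw [mem_center_iff]
  intro y
  apply Subtype.ext
  exact (mem_center_iff.mp (h _ h1)) y

theorem pow_p_central {G : Type u} [Group G] (h : PCen p G) {x : G} (hx : x ^ p ^ 2 = 1) :
    x ^ p ∈ center G := by
  apply h
  rw [← pow_mul, ← sq, hx]

/-- The `p`-power map on elements of order dividing `p²` is multiplicative. -/
theorem pmap_aux (hodd : p ≠ 2) : ∀ n : ℕ, ∀ (G : Type u) [Group G] [Finite G], Nat.card G ≤ n →
    IsPGroup p G → PCen p G → ∀ x y : G, x ^ p ^ 2 = 1 → y ^ p ^ 2 = 1 →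
      (x * y) ^ p = x ^ p * y ^ p := by
  intro n
  induction n with
  | zero =>
    intro G _ _ hc
    have : 0 < Nat.card G := Nat.card_pos
    omega
  | succ n ih =>
    intro G _ _ hc hG hZ x y hx hy
    by_cases hcyc : zpowers x = ⊤
    · -- `G` is cyclic
      have hy' : y ∈ zpowers x := by rw [hcyc]; trivial
      obtain ⟨k, rfl⟩ := hy'
      have : Commute x (x ^ k) := (Commute.refl x).zpow_right k
      exact this.mul_pow p
    · obtain ⟨M, hxM, hMn, hMi⟩ := Cfsg.Agent.Lib.PGroup.Basic.exists_normal_index_ge hG hcyc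
      have hxM' : x ∈ M := hxM (mem_zpowers x)
      have hMtop : M ≠ ⊤ := by
        rintro rfl
        simp at hMi
        exact hp.out.one_lt.ne hMi
      have hMcard : Nat.card M ≤ n := by
        by_contra hcon
        have h2 : Nat.card (⊤ : Subgroup G) = Nat.card G := Subgroup.card_top
        have h3 : Nat.card (⊤ : Subgroup G) ≤ Nat.card M := by omega
        exact hMtop (Subgroup.eq_of_le_of_card_ge le_top h3)
      have key := ih M hMcard (hG.to_subgroup M) (hZ.subgroup M)
      -- the two elements of `M`
      let u : M := ⟨y * x * y⁻¹, hMn.conj_mem x hxM' y⟩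
      let v : M := ⟨x⁻¹, M.inv_mem hxM'⟩
      have hu : u ^ p ^ 2 = 1 := by
        apply Subtype.ext
        show (y * x * y⁻¹) ^ p ^ 2 = 1
        rw [conj_pow, hx]; group
      have hv : v ^ p ^ 2 = 1 := by
        apply Subtype.ext
        show (x⁻¹) ^ p ^ 2 = 1
        rw [inv_pow, hx, inv_one]
      have h1 := congrArg Subtype.val (key u v hu hv)
      have h2 : ((y * x * y⁻¹) * x⁻¹) ^ p = (y * x * y⁻¹) ^ p * (x⁻¹) ^ p := by
        simpa [u, v] using h1
      have hxc := pow_p_central hZ hx
      have hc1 : ⁅y, x⁆ ^ p = 1 := by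
        rw [commutatorElement_def, h2, conj_pow, inv_pow]
        rw [mem_center_iff] at hxc
        have : y * x ^ p * y⁻¹ = x ^ p := by rw [hxc y]; group
        rw [this]; group
      have hcc := hZ _ hc1
      rw [mem_center_iff] at hcc
      have := Cfsg.Agent.Lib.PGroup.Basic.mul_pow_of_commutator_central (x := x) (y := y)
        (hcc x) (hcc y) p
      rw [this, choose_pow_eq_one hodd hc1, mul_one]

theorem pmap (hodd : p ≠ 2) {G : Type u} [Group G] [Finite G] (hG : IsPGroup p G) (hZ : PCen p G)
    {x y : G} (hx : x ^ p ^ 2 = 1) (hy : y ^ p ^ 2 = 1) : (x * y) ^ p = x ^ p * y ^ p :=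
  pmap_aux hodd _ G le_rfl hG hZ x y hx hy

/-- The subgroup of solutions of `x ^ p = 1` in a `p`-central group. -/
def om1 {G : Type u} [Group G] (h : PCen p G) : Subgroup G where
  carrier := {x | x ^ p = 1}
  one_mem' := one_pow _
  mul_mem' := by
    intro a b ha hb
    have hb' := h b hb
    have : Commute a b := mem_center_iff.mp hb' a
    show (a * b) ^ p = 1
    rw [this.mul_pow, show a ^ p = 1 from ha, show b ^ p = 1 from hb, one_mul]
  inv_mem' := by
    intro a ha
    show a⁻¹ ^ p = 1
    rw [inv_pow, show a ^ p = 1 from ha, inv_one]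

theorem mem_om1 {G : Type u} [Group G] (h : PCen p G) {x : G} : x ∈ om1 h ↔ x ^ p = 1 := Iff.rfl

instance om1_normal {G : Type u} [Group G] (h : PCen p G) : (om1 h).Normal := by
  constructor
  intro a ha g
  rw [mem_om1] at *
  rw [conj_pow, ha]; group

/-- Elements of order dividing `p²`, as a subgroup. -/
def om2 (hodd : p ≠ 2) {G : Type u} [Group G] [Finite G] (hG : IsPGroup p G) (h : PCen p G) :
    Subgroup G where
  carrier := {x | x ^ p ^ 2 = 1}
  one_mem' := one_pow _
  mul_mem' := by
    intro a b ha hb
    have ha' : a ^ p ^ 2 = 1 := ha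
    have hb' : b ^ p ^ 2 = 1 := hb
    show (a * b) ^ p ^ 2 = 1
    rw [sq, pow_mul, pmap hodd hG h ha' hb']
    have hc : Commute (a ^ p) (b ^ p) := mem_center_iff.mp (pow_p_central h hb') _
    rw [hc.mul_pow, ← pow_mul, ← pow_mul, ← sq, ha', hb', one_mul]
  inv_mem' := by
    intro a ha
    show a⁻¹ ^ p ^ 2 = 1
    rw [inv_pow, show a ^ p ^ 2 = 1 from ha, inv_one]

/-- The `p`-power homomorphism on `om2`. -/
def powHom (hodd : p ≠ 2) {G : Type u} [Group G] [Finite G] (hG : IsPGroup p G) (h : PCen p G) :
    om2 hodd hG h →* G where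
  toFun x := (x : G) ^ p
  map_one' := by simp
  map_mul' a b := by
    simpa using pmap hodd hG h a.2 b.2

/-- Greedy generation: a subgroup of a `p`-group is generated, modulo a smaller one, by few
elements. -/
theorem exists_gens_mod {G : Type u} [Group G] [Finite G] (hG : IsPGroup p G) :
    ∀ n : ℕ, ∀ B X : Subgroup G, B ≤ X → Nat.card X - Nat.card B ≤ n →
      ∃ S : Finset G, (S : Set G) ⊆ X ∧ closure (S : Set G) ⊔ B = X ∧
        p ^ S.card * Nat.card B ≤ Nat.card X := by
  classical
  intro n
  induction n with
  | zero =>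
    intro B X hBX hn
    refine ⟨∅, by simp, ?_, by simpa using Subgroup.card_le_of_le hBX⟩
    have hle : Nat.card X ≤ Nat.card B := by omega
    have : B = X := Subgroup.eq_of_le_of_card_ge hBX hle
    simp [this]
  | succ n ih =>
    intro B X hBX hn
    by_cases hEq : B = X
    · subst hEq
      exact ⟨∅, by simp, by simp, by simp⟩
    · have hlt : B < X := lt_of_le_of_ne hBX hEq
      obtain ⟨x, hxX, hxB⟩ := SetLike.exists_of_lt hlt
      let B' : Subgroup G := B ⊔ zpowers x
      have hB'X : B' ≤ X := sup_le hBX ((zpowers_le).mpr hxX)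
      have hBB' : B ≤ B' := le_sup_left
      have hxB' : x ∈ B' := (le_sup_right : zpowers x ≤ B') (mem_zpowers x)
      have hltB : B < B' := lt_of_le_of_ne hBB' (fun h => hxB (h ▸ hxB'))
      -- order grows by a factor of at least `p`
      have hcard : p * Nat.card B ≤ Nat.card B' := by
        have h1 : Nat.card B * (B.subgroupOf B').index = Nat.card B' := by
          have := Subgroup.card_mul_index (B.subgroupOf B')
          rwa [Nat.card_congr (Subgroup.subgroupOfEquivOfLe hBB').toEquiv] at this
        have hne : (B.subgroupOf B').index ≠ 1 := by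
          intro h
          rw [h, mul_one] at h1
          exact (lt_of_le_of_ne hBB' (fun h => hxB (h ▸ hxB'))).ne
            (Subgroup.eq_of_le_of_card_ge hBB' h1.symm.le)
        have hpg : IsPGroup p B' := hG.to_subgroup B'
        obtain ⟨k, hk⟩ := IsPGroup.iff_card.mp hpg
        have hdvd : (B.subgroupOf B').index ∣ p ^ k := by
          rw [← hk]; exact Subgroup.index_dvd_card _
        obtain ⟨l, -, hl⟩ := (Nat.dvd_prime_pow hp.out).mp hdvd
        have hl0 : l ≠ 0 := by
          rintro rfl
          rw [pow_zero] at hl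
          exact hne hl
        have hple : p ≤ (B.subgroupOf B').index := by
          rw [hl]
          calc p = p ^ 1 := (pow_one p).symm
            _ ≤ p ^ l := Nat.pow_le_pow_right hp.out.pos (Nat.pos_of_ne_zero hl0)
        rw [← h1, mul_comm]
        exact Nat.mul_le_mul_left _ hple
      have hBcard : Nat.card B < Nat.card B' := by
        have : 0 < Nat.card B := Nat.card_pos
        have h2 := hp.out.two_le
        nlinarith
      obtain ⟨S, hSX, hScl, hSc⟩ := ih B' X hB'X (by omega)
      refine ⟨insert x S, ?_, ?_, ?_⟩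
      · simp only [Finset.coe_insert, Set.insert_subset_iff]
        exact ⟨hxX, hSX⟩
      · rw [Finset.coe_insert, ← hScl]
        apply le_antisymm
        · apply sup_le
          · rw [closure_le]
            intro a ha
            rcases ha with rfl | ha
            · exact Subgroup.mem_sup_right hxB'
            · exact Subgroup.mem_sup_left (subset_closure ha)
          · exact hBB'.trans le_sup_right
        · apply sup_le
          · rw [closure_le]
            intro a ha
            exact Subgroup.mem_sup_left (subset_closure (Set.mem_insert_of_mem _ ha))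
          · apply sup_le le_sup_right
            rw [zpowers_le]
            exact Subgroup.mem_sup_left (subset_closure (Set.mem_insert _ _))
      · have hc : (insert x S).card ≤ S.card + 1 := Finset.card_insert_le _ _
        calc p ^ (insert x S).card * Nat.card B ≤ p ^ (S.card + 1) * Nat.card B :=
              Nat.mul_le_mul_right _ (Nat.pow_le_pow_right hp.out.pos hc)
          _ = p ^ S.card * (p * Nat.card B) := by rw [pow_succ]; ring
          _ ≤ p ^ S.card * Nat.card B' := Nat.mul_le_mul_left _ hcard
          _ ≤ Nat.card X := hSc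

/-- The quotient by `Ω₁` is again `p`-central. -/
theorem pcen_quot (hodd : p ≠ 2) {G : Type u} [Group G] [Finite G] (hG : IsPGroup p G)
    (h : PCen p G) : PCen p (G ⧸ om1 h) := by
  intro gb hgb
  obtain ⟨g, rfl⟩ := QuotientGroup.mk'_surjective (om1 h) gb
  rw [← map_pow, ← MonoidHom.mem_ker, QuotientGroup.ker_mk', mem_om1, ← pow_mul, ← sq] at hgb
  rw [mem_center_iff]
  intro hb
  obtain ⟨k, rfl⟩ := QuotientGroup.mk'_surjective (om1 h) hb
  have hc : (k * g * k⁻¹) * g⁻¹ ∈ om1 h := by
    rw [mem_om1]
    have h1 : (k * g * k⁻¹) ^ p ^ 2 = 1 := by rw [conj_pow, hgb]; group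
    have h2 : (g⁻¹) ^ p ^ 2 = 1 := by rw [inv_pow, hgb, inv_one]
    rw [pmap hodd hG h h1 h2, conj_pow, inv_pow]
    have hxc := mem_center_iff.mp (pow_p_central h hgb)
    have : k * g ^ p * k⁻¹ = g ^ p := by rw [hxc k]; group
    rw [this]; group
  have h3 : QuotientGroup.mk' (om1 h) ((k * g * k⁻¹) * g⁻¹) = 1 := by
    rw [← MonoidHom.mem_ker, QuotientGroup.ker_mk']; exact hc
  simp only [map_mul, map_inv] at h3
  rw [mul_inv_eq_one, mul_inv_eq_iff_eq_mul] at h3
  exact h3

/-- **Thompson**: a `p`-central `p`-group (`p` odd) has at most `log_p |Ω₁|` generators. -/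
theorem pcentral_gens_aux (hodd : p ≠ 2) : ∀ n : ℕ, ∀ (G : Type u) [Group G] [Finite G],
    Nat.card G ≤ n → IsPGroup p G → ∀ h : PCen p G,
      ∃ S : Finset G, closure (S : Set G) = ⊤ ∧ p ^ S.card ≤ Nat.card (om1 h) := by
  classical
  intro n
  induction n with
  | zero =>
    intro G _ _ hc
    have : 0 < Nat.card G := Nat.card_pos
    omega
  | succ n ih =>
    intro G _ _ hc hG h
    by_cases hbot : om1 h = ⊥
    · -- `G` is trivial
      have hG1 : ∀ x : G, x = 1 := by
        by_contra hne
        push Not at hne
        obtain ⟨x, hx⟩ := hne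
        have hnt : Nontrivial G := ⟨⟨x, 1, hx⟩⟩
        obtain ⟨k, hk⟩ := IsPGroup.iff_card.mp hG
        have hk0 : k ≠ 0 := by
          rintro rfl
          rw [pow_zero] at hk
          exact absurd hk (Finite.one_lt_card).ne'
        have hdvd : p ∣ Nat.card G := by rw [hk]; exact dvd_pow_self p hk0
        obtain ⟨y, hy⟩ := exists_prime_orderOf_dvd_card' p hdvd
        have : y ∈ om1 h := by rw [mem_om1, ← hy]; exact pow_orderOf_eq_one y
        rw [hbot, mem_bot] at this
        rw [this, orderOf_one] at hy
        exact hp.out.one_lt.ne hy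
      refine ⟨∅, ?_, by rw [Finset.card_empty, pow_zero]; exact Nat.card_pos⟩
      rw [eq_top_iff]
      intro x _
      rw [hG1 x]; exact one_mem _
    · have hcardlt : Nat.card (G ⧸ om1 h) ≤ n := by
        have h1 : Nat.card (om1 h) * Nat.card (G ⧸ om1 h) = Nat.card G :=
          (Subgroup.card_eq_card_quotient_mul_card_subgroup (om1 h) ▸ mul_comm _ _)
        have h2 : 1 < Nat.card (om1 h) := by
          rw [Finite.one_lt_card_iff_nontrivial]
          exact (nontrivial_iff_ne_bot _).mpr hbot
        have h3 : 0 < Nat.card (G ⧸ om1 h) := Nat.card_pos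
        nlinarith
      have hQ : PCen p (G ⧸ om1 h) := pcen_quot hodd hG h
      obtain ⟨Sb, hSb, hSbc⟩ := ih (G ⧸ om1 h) hcardlt
        (hG.to_quotient (om1 h)) hQ
      let f := powHom hodd hG h
      have hBE : f.range ≤ om1 h := by
        rintro _ ⟨g, rfl⟩
        show ((g : G) ^ p) ^ p = 1
        rw [← pow_mul, ← sq]; exact g.2
      -- the count
      have hcount : Nat.card (om1 hQ) ≤ Nat.card f.range := by
        have hmem : ∀ gb : om1 hQ, (Quotient.out gb.1 : G) ∈ om2 hodd hG h := by
          intro gb
          have h1 : (gb.1 : G ⧸ om1 h) ^ p = 1 := gb.2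
          have h2 : QuotientGroup.mk' (om1 h) (Quotient.out gb.1 : G) = gb.1 := Quotient.out_eq _
          rw [← h2, ← map_pow, ← MonoidHom.mem_ker, QuotientGroup.ker_mk', mem_om1, ← pow_mul,
            ← sq] at h1
          exact h1
        let φ : om1 hQ → f.range := fun gb => ⟨f ⟨_, hmem gb⟩, ⟨_, rfl⟩⟩
        apply Nat.card_le_card_of_injective φ
        intro a b hab
        have h1 : (Quotient.out a.1 : G) ^ p = (Quotient.out b.1 : G) ^ p :=
          congrArg Subtype.val hab
        have ha := hmem a
        have hb := hmem b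
        have ha' : (Quotient.out a.1 : G) ^ p ^ 2 = 1 := ha
        have hb' : (Quotient.out b.1 : G) ^ p ^ 2 = 1 := hb
        have h2 : (Quotient.out a.1 : G)⁻¹ * Quotient.out b.1 ∈ om1 h := by
          rw [mem_om1, pmap hodd hG h (by rw [inv_pow, ha', inv_one]) hb', inv_pow, h1]
          group
        apply Subtype.ext
        have h3 := QuotientGroup.eq.mpr h2
        have ea : ((Quotient.out a.1 : G) : G ⧸ om1 h) = a.1 := Quotient.out_eq _
        have eb : ((Quotient.out b.1 : G) : G ⧸ om1 h) = b.1 := Quotient.out_eq _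
        rw [ea, eb] at h3
        exact h3
      obtain ⟨S2, hS2E, hS2c, hS2card⟩ := exists_gens_mod hG _ f.range (om1 h) hBE le_rfl
      let S1 : Finset G := Sb.image (fun x => (Quotient.out x : G))
      have hS1card : S1.card ≤ Sb.card := Finset.card_image_le
      refine ⟨S1 ∪ S2, ?_, ?_⟩
      · by_contra hne
        obtain ⟨M, hLM, hMn, hMi⟩ := Cfsg.Agent.Lib.PGroup.Basic.exists_normal_index_ge hG hne
        have hS1M : ∀ x ∈ S1, x ∈ M := fun x hx =>
          hLM (subset_closure (by simp [hx]))
        have hS2M : ∀ x ∈ S2, x ∈ M := fun x hx =>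
          hLM (subset_closure (by simp [hx]))
        have hBM : f.range ≤ M := by
          rintro _ ⟨g, rfl⟩
          have := Subgroup.pow_index_mem M (g : G)
          rwa [hMi] at this
        have hEM : om1 h ≤ M := by
          rw [← hS2c]
          apply sup_le _ hBM
          rw [closure_le]
          exact hS2M
        have hmapTop : M.map (QuotientGroup.mk' (om1 h)) = ⊤ := by
          rw [eq_top_iff, ← hSb, closure_le]
          intro x hx
          refine ⟨Quotient.out x, ?_, Quotient.out_eq _⟩
          apply hS1M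
          exact Finset.mem_image_of_mem _ hx
        have hMtop : M = ⊤ := by
          rw [eq_top_iff]
          intro g _
          have h1 : QuotientGroup.mk' (om1 h) g ∈ M.map (QuotientGroup.mk' (om1 h)) := by
            rw [hmapTop]; trivial
          obtain ⟨m, hm, hmg⟩ := h1
          have h2 : m⁻¹ * g ∈ om1 h := QuotientGroup.eq.mp hmg
          have h3 := M.mul_mem hm (hEM h2)
          simpa using h3
        rw [hMtop, Subgroup.index_top] at hMi
        exact hp.out.one_lt.ne hMi
      · have h1 : (S1 ∪ S2).card ≤ Sb.card + S2.card :=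
          (Finset.card_union_le _ _).trans (Nat.add_le_add_right hS1card _)
        calc p ^ (S1 ∪ S2).card ≤ p ^ (Sb.card + S2.card) :=
              Nat.pow_le_pow_right hp.out.pos h1
          _ = p ^ S2.card * p ^ Sb.card := by rw [pow_add]; ring
          _ ≤ p ^ S2.card * Nat.card f.range :=
              Nat.mul_le_mul_left _ (hSbc.trans hcount)
          _ ≤ Nat.card (om1 h) := hS2card

theorem pcentral_gens (hodd : p ≠ 2) {G : Type u} [Group G] [Finite G] (hG : IsPGroup p G)
    (h : PCen p G) : ∃ S : Finset G, closure (S : Set G) = ⊤ ∧ p ^ S.card ≤ Nat.card (om1 h) :=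
  pcentral_gens_aux hodd _ G le_rfl hG h

end Cfsg.Agent.Lib.PRank
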